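import Mathlib

/-!
Two simplicity criteria for permutation groups, for the Mathieu groups:

* `simple_of_prime_degree`: a perfect group acting faithfully and transitively on a prime number
  of points is simple;
* `simple_of_two_trans`: a subgroup `S` acting faithfully and 2-transitively on a set `Ω` whose
  size is not a prime power, with simple point stabilizer, is simple.
-/

set_option autoImplicit false
set_option linter.unusedSectionVars false
set_option linter.style.haveILetI false

namespace Cfsg.Agent.Lib.Mathieu.Simple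

open MulAction

section Prime

variable {G : Type*} [Group G] [Finite G] {X : Type*} [MulAction G X] [Finite X]

theorem card_orbit_dvd {A : Type*} [Group A] [Finite A] {Y : Type*} [MulAction A Y] (x : Y) :
    Nat.card (orbit A x) ∣ Nat.card A := by
  rw [Nat.card_congr (orbitEquivQuotientStabilizer A x)]
  exact Subgroup.card_quotient_dvd_card _

theorem card_dvd_factorial [FaithfulSMul G X] : Nat.card G ∣ (Nat.card X).factorial := by
  have hinj : Function.Injective (MulAction.toPermHom G X) := by
    intro a b hab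
    apply FaithfulSMul.eq_of_smul_eq_smul (α := X)
    intro x
    exact congrArg (fun f : Equiv.Perm X => f x) hab
  have h := Subgroup.card_dvd_of_injective (MulAction.toPermHom G X) hinj
  rwa [Nat.card_perm] at h

theorem not_sq_dvd_factorial {p : ℕ} (hp : p.Prime) : ¬ p ^ 2 ∣ p.factorial := by
  intro h
  obtain ⟨k, rfl⟩ : ∃ k, p = k + 1 := ⟨p - 1, by have := hp.pos; omega⟩
  rw [Nat.factorial_succ, pow_two] at h
  have h1 := Nat.dvd_of_mul_dvd_mul_left (Nat.succ_pos k) h
  have h2 := (hp.dvd_factorial).mp h1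
  omega

/-- A regular abelian subgroup contains its centralizer. -/
theorem centralizer_le_of_regular [FaithfulSMul G X] (P : Subgroup G) (hcomm : ∀ a ∈ P, ∀ b ∈ P, a * b = b * a)
    (y : X) (htr : ∀ z : X, ∃ τ ∈ P, τ • y = z) (g : G) (hg : g ∈ Subgroup.centralizer (P : Set G)) :
    g ∈ P := by
  obtain ⟨σ, hσ, hσy⟩ := htr (g • y)
  have : g = σ := by
    apply FaithfulSMul.eq_of_smul_eq_smul (α := X)
    intro z
    obtain ⟨τ, hτ, rfl⟩ := htr z
    have h1 : g * τ = τ * g := by
      have := Subgroup.mem_centralizer_iff.mp hg τ hτ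
      exact this.symm
    rw [← mul_smul, h1, mul_smul, ← hσy, ← mul_smul, ← mul_smul, hcomm τ hτ σ hσ]
  rwa [this]

/-- The normalizer of a cyclic subgroup whose centralizer is abelian is solvable. -/
theorem normalizer_solvable (P : Subgroup G) [IsCyclic P]
    (hC : ∀ a ∈ Subgroup.centralizer (P : Set G), ∀ b ∈ Subgroup.centralizer (P : Set G), a * b = b * a) :
    Group.IsSolvable (Subgroup.normalizer (P : Set G)) := by
  classical
  let f := P.normalizerMonoidHom
  haveI : Group.IsSolvable (MulAut P) := by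
    haveI : Finite P := inferInstance
    have e := IsCyclic.mulAutMulEquiv P
    haveI : Group.IsSolvable (ZMod (Nat.card P))ˣ := Group.isSolvable_of_comm (fun a b => mul_comm a b)
    exact Group.isSolvable_of_surjective (f := e.symm.toMonoidHom) e.symm.surjective
  have hker : ∀ x : Subgroup.normalizer (P : Set G), x ∈ f.ker →
      (x : G) ∈ Subgroup.centralizer (P : Set G) := by
    intro x hx
    have key : f.ker = (Subgroup.centralizer (P : Set G)).subgroupOf (Subgroup.normalizer (P : Set G)) :=
      Subgroup.normalizerMonoidHom_ker P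
    rw [key, Subgroup.mem_subgroupOf] at hx
    exact hx
  haveI : Group.IsSolvable f.ker := by
    apply Group.isSolvable_of_comm
    intro a b
    apply Subtype.ext
    apply Subtype.ext
    exact hC _ (hker _ a.2) _ (hker _ b.2)
  exact Group.isSolvable_of_ker_le_range f.ker.subtype f (by simp)

/-- If `G` is perfect and acts faithfully and transitively on a prime number of points, then
`G` is simple. -/
theorem simple_of_prime_degree [FaithfulSMul G X] [IsPretransitive G X]
    (hp : (Nat.card X).Prime) (hperf : commutator G = ⊤) : IsSimpleGroup G := by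
  classical
  have hprim : IsPreprimitive G X := IsPreprimitive.of_prime_card hp
  set p := Nat.card X with hpdef
  haveI : Fact p.Prime := ⟨hp⟩
  haveI hXnt : Nontrivial X := by
    rw [← Finite.one_lt_card_iff_nontrivial]
    exact hp.one_lt
  obtain ⟨x₀⟩ : Nonempty X := inferInstance
  -- order of `G` is divisible by `p`
  have htopdvd : ∀ (N : Subgroup G), IsPretransitive N X → p ∣ Nat.card N := by
    intro N hN
    have h1 := card_orbit_dvd (A := N) x₀
    have h2 : Nat.card (orbit N x₀) = p := by
      rw [MulAction.orbit_eq_univ N x₀, Nat.card_coe_set_eq, Set.ncard_univ]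
    rwa [h2] at h1
  haveI : Nontrivial G := by
    have := htopdvd ⊤ (by
      constructor
      intro a b
      obtain ⟨g, hg⟩ := MulAction.exists_smul_eq G a b
      exact ⟨⟨g, trivial⟩, hg⟩)
    rw [Nat.card_congr Subgroup.topEquiv.toEquiv] at this
    rw [← Finite.one_lt_card_iff_nontrivial]
    have h2 : 0 < Nat.card G := Nat.card_pos
    have h3 := Nat.le_of_dvd h2 this
    have := hp.one_lt
    omega
  refine IsSimpleGroup.mk ?_
  intro N hN
  by_cases hbot : N = ⊥
  · exact Or.inl hbot
  right
  -- `N` is transitive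
  have htr : IsPretransitive N X := by
    apply IsQuasiPreprimitive.isPretransitive_of_normal
    intro h
    apply hbot
    rw [Subgroup.eq_bot_iff_forall]
    intro g hg
    apply FaithfulSMul.eq_of_smul_eq_smul (α := X)
    intro a
    have ha : a ∈ fixedPoints N X := by rw [h]; trivial
    have := ha ⟨g, hg⟩
    simpa using this
  have hdvd := htopdvd N htr
  -- Sylow subgroup of order `p`
  let P : Sylow p N := Nonempty.some inferInstance
  have hcardP : Nat.card P = p := by
    rw [Sylow.card_eq_multiplicity]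
    have hle : (Nat.card N).factorization p ≤ 1 := by
      by_contra hcon
      push Not at hcon
      have h1 : p ^ 2 ∣ Nat.card N := by
        have hN0 : Nat.card N ≠ 0 := Nat.card_pos.ne'
        exact (hp.pow_dvd_iff_le_factorization hN0).mpr hcon
      have h2 : Nat.card N ∣ Nat.card G := Subgroup.card_subgroup_dvd_card N
      exact not_sq_dvd_factorial hp (h1.trans (h2.trans card_dvd_factorial))
    have hge : 1 ≤ (Nat.card N).factorization p :=
      (hp.dvd_iff_one_le_factorization Nat.card_pos.ne').mp hdvd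
    have : (Nat.card N).factorization p = 1 := le_antisymm hle hge
    rw [this, pow_one]
  -- as a subgroup of `G`
  let P' : Subgroup G := (P : Subgroup N).map N.subtype
  have hcardP' : Nat.card P' = p := by
    have : Nat.card P' = Nat.card (P : Subgroup N) :=
      Nat.card_congr (Subgroup.equivMapOfInjective (P : Subgroup N) N.subtype N.subtype_injective).toEquiv.symm
    rw [this]
    exact hcardP
  haveI hPcyc : IsCyclic P' := isCyclic_of_prime_card hcardP'
  have hPcomm : ∀ a ∈ P', ∀ b ∈ P', a * b = b * a := by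
    intro a ha b hb
    have := (IsCyclic.isMulCommutative (α := P')).is_comm.comm ⟨a, ha⟩ ⟨b, hb⟩
    exact congrArg Subtype.val this
  -- `P'` is transitive
  have hPne : ∃ σ ∈ P', σ ≠ 1 := by
    by_contra hcon
    push Not at hcon
    have : P' = ⊥ := (Subgroup.eq_bot_iff_forall _).mpr hcon
    rw [this] at hcardP'
    simp at hcardP'
    exact hp.one_lt.ne hcardP'
  obtain ⟨σ, hσ, hσ1⟩ := hPne
  obtain ⟨y, hy⟩ : ∃ y : X, σ • y ≠ y := by
    by_contra hcon
    push Not at hcon
    apply hσ1
    apply FaithfulSMul.eq_of_smul_eq_smul (α := X)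
    intro a
    rw [hcon a, one_smul]
  have hPtr : ∀ z : X, ∃ τ ∈ P', τ • y = z := by
    have h2 : Nat.card (orbit P' y) ∣ p := by
      have h1 := card_orbit_dvd (A := P') y
      rwa [hcardP'] at h1
    have h3 : Nat.card (orbit P' y) ≠ 1 := by
      intro h
      have h4 : (⟨σ, hσ⟩ : P') • y ∈ orbit P' y := MulAction.mem_orbit _ _
      have h5 : y ∈ orbit P' y := MulAction.mem_orbit_self y
      have := (Nat.card_eq_one_iff_unique.mp h).1.elim ⟨_, h4⟩ ⟨_, h5⟩
      exact hy (congrArg Subtype.val this)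
    have h6 : Nat.card (orbit P' y) = p := ((Nat.dvd_prime hp).mp h2).resolve_left h3
    have h7 : orbit P' y = Set.univ := by
      apply Set.eq_of_subset_of_ncard_le (Set.subset_univ _)
      rw [Set.ncard_univ]
      rw [Nat.card_coe_set_eq] at h6
      rw [h6]
    intro z
    have : z ∈ orbit P' y := by rw [h7]; trivial
    obtain ⟨τ, hτ⟩ := this
    exact ⟨τ, τ.2, hτ⟩
  have hC : ∀ a ∈ Subgroup.centralizer (P' : Set G), ∀ b ∈ Subgroup.centralizer (P' : Set G),
      a * b = b * a := by
    intro a ha b hb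
    exact hPcomm a (centralizer_le_of_regular P' hPcomm y hPtr a ha) b
      (centralizer_le_of_regular P' hPcomm y hPtr b hb)
  haveI hsolv : Group.IsSolvable (Subgroup.normalizer (P' : Set G)) := normalizer_solvable P' hC
  -- Frattini
  have hF : Subgroup.normalizer (P' : Set G) ⊔ N = ⊤ := Sylow.normalizer_sup_eq_top P
  -- the quotient is solvable
  have hsurj : Function.Surjective
      ((QuotientGroup.mk' N).comp (Subgroup.normalizer (P' : Set G)).subtype) := by
    intro q
    obtain ⟨g, rfl⟩ := QuotientGroup.mk'_surjective N q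
    have hg : g ∈ Subgroup.normalizer (P' : Set G) ⊔ N := by rw [hF]; trivial
    obtain ⟨h, hh, n, hn, rfl⟩ := Subgroup.mem_sup_of_normal_right.mp hg
    refine ⟨⟨h, hh⟩, ?_⟩
    simp only [MonoidHom.coe_comp, Function.comp_apply, Subgroup.coe_subtype]
    rw [map_mul]
    have : QuotientGroup.mk' N n = 1 := (QuotientGroup.eq_one_iff n).mpr hn
    rw [this, mul_one]
  haveI : Group.IsSolvable (G ⧸ N) := Group.isSolvable_of_surjective hsurj
  -- perfect groups have no nontrivial solvable quotient
  by_contra hne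
  haveI : Nontrivial (G ⧸ N) := QuotientGroup.nontrivial_iff.mpr hne
  have hlt := Group.IsSolvable.commutator_lt_top_of_nontrivial (G ⧸ N)
  have hmap : commutator (G ⧸ N) = ⊤ := by
    have h1 : (commutator G).map (QuotientGroup.mk' N) = commutator (G ⧸ N) := by
      rw [commutator_def, commutator_def, Subgroup.map_commutator, Subgroup.map_top_of_surjective _
        (QuotientGroup.mk'_surjective N)]
    rw [← h1, hperf, Subgroup.map_top_of_surjective _ (QuotientGroup.mk'_surjective N)]
  rw [hmap] at hlt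
  exact lt_irrefl _ hlt

end Prime

section TwoTrans

variable {G : Type*} [Group G] {X : Type*} [MulAction G X]

/-- A subgroup `S` acting faithfully and 2-transitively on a set `Ω`, not of prime power size,
with a simple point stabilizer, is simple. -/
theorem simple_of_two_trans (S : Subgroup G) [Finite S] (Ω : Set X) [Finite Ω]
    (hinv : ∀ g ∈ S, ∀ y ∈ Ω, g • y ∈ Ω)
    (hfaith : ∀ g ∈ S, (∀ y ∈ Ω, g • y = y) → g = 1)
    (htrans : ∀ a ∈ Ω, ∀ b ∈ Ω, ∀ c ∈ Ω, ∀ d ∈ Ω, a ≠ b → c ≠ d → ∃ g ∈ S, g • a = c ∧ g • b = d)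
    (x : X) (hx : x ∈ Ω) (hsimple : IsSimpleGroup ↥(S ⊓ stabilizer G x))
    (hcard : ¬ IsPrimePow (Set.ncard Ω)) : IsSimpleGroup S := by
  classical
  -- nontrivial
  haveI : Nontrivial ↥(S ⊓ stabilizer G x) := hsimple.toNontrivial
  have hSnt : Nontrivial S := by
    obtain ⟨⟨a, ha⟩, hane⟩ := exists_ne (1 : ↥(S ⊓ stabilizer G x))
    refine ⟨⟨⟨a, ha.1⟩, 1, ?_⟩⟩
    intro h
    have h' : a = 1 := congrArg Subtype.val h
    exact hane (Subtype.ext h')
  refine IsSimpleGroup.mk ?_
  intro N hN
  by_cases hbot : N = ⊥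
  · exact Or.inl hbot
  right
  -- a nontrivial element of `N`, moving a point of `Ω`
  obtain ⟨n₀, hn₀, hn₀1⟩ : ∃ n ∈ N, n ≠ 1 := by
    by_contra hcon
    push Not at hcon
    exact hbot ((Subgroup.eq_bot_iff_forall _).mpr hcon)
  obtain ⟨y, hy, hny⟩ : ∃ y ∈ Ω, (n₀ : G) • y ≠ y := by
    by_contra hcon
    push Not at hcon
    apply hn₀1
    exact Subtype.ext (hfaith _ n₀.2 hcon)
  have hzΩ : (n₀ : G) • y ∈ Ω := hinv _ n₀.2 y hy
  -- conjugate: transitivity of `N` on `Ω`
  have hNtr : ∀ c ∈ Ω, ∀ d ∈ Ω, ∃ n ∈ N, ((n : S) : G) • c = d := by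
    intro c hc d hd
    by_cases hcd : c = d
    · exact ⟨1, N.one_mem, by simp [hcd]⟩
    obtain ⟨g, hg, hgy, hgz⟩ := htrans y hy _ hzΩ c hc d hd (Ne.symm hny) hcd
    refine ⟨⟨g, hg⟩ * n₀ * ⟨g, hg⟩⁻¹, hN.conj_mem _ hn₀ _, ?_⟩
    change (g * (n₀ : G) * g⁻¹) • c = d
    rw [← hgy, mul_smul, mul_smul, inv_smul_smul, hgz]
  -- the normal subgroup of the stabilizer
  let K : Subgroup ↥(S ⊓ stabilizer G x) :=
    (N.map S.subtype).subgroupOf (S ⊓ stabilizer G x)
  have hKnormal : K.Normal := by
    constructor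
    intro k hk g
    rw [Subgroup.mem_subgroupOf, Subgroup.mem_map] at hk ⊢
    obtain ⟨n, hn, hnk⟩ := hk
    have hgS : (g : G) ∈ S := g.2.1
    refine ⟨⟨g, hgS⟩ * n * ⟨g, hgS⟩⁻¹, hN.conj_mem _ hn _, ?_⟩
    simp only [map_mul, map_inv, Subgroup.coe_subtype, Subgroup.coe_mul, Subgroup.coe_inv] at hnk ⊢
    rw [hnk]
  rcases hsimple.eq_bot_or_eq_top_of_normal K hKnormal with hK | hK
  · -- `N` is regular on `Ω`
    exfalso
    have hinj : ∀ n ∈ N, ∀ m ∈ N, ((n : S) : G) • x = ((m : S) : G) • x → n = m := by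
      intro n hn m hm h
      have hstab : ((m⁻¹ * n : S) : G) • x = x := by
        change ((m : G)⁻¹ * (n : G)) • x = x
        rw [mul_smul, h, inv_smul_smul]
      have hmem : (⟨((m⁻¹ * n : S) : G), ⟨(m⁻¹ * n).2, hstab⟩⟩ : ↥(S ⊓ stabilizer G x)) ∈ K := by
        rw [Subgroup.mem_subgroupOf, Subgroup.mem_map]
        exact ⟨m⁻¹ * n, N.mul_mem (N.inv_mem hm) hn, rfl⟩
      rw [hK, Subgroup.mem_bot] at hmem
      have h1 : ((m⁻¹ * n : S) : G) = 1 := congrArg Subtype.val hmem
      have h2 : m⁻¹ * n = 1 := Subtype.ext h1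
      exact (inv_mul_eq_one.mp h2).symm
    -- all nontrivial elements of `N` are conjugate
    have hconj : ∀ n ∈ N, ∀ m ∈ N, n ≠ 1 → m ≠ 1 → ∃ g : S, g * n * g⁻¹ = m := by
      intro n hn m hm hn1 hm1
      have hnx : ((n : S) : G) • x ≠ x := by
        intro h
        apply hn1
        apply hinj n hn 1 N.one_mem
        simpa using h
      have hmx : ((m : S) : G) • x ≠ x := by
        intro h
        apply hm1
        apply hinj m hm 1 N.one_mem
        simpa using h
      obtain ⟨g, hg, hgx, hgn⟩ := htrans x hx _ (hinv _ n.2 x hx) x hx _ (hinv _ m.2 x hx)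
        (Ne.symm hnx) (Ne.symm hmx)
      refine ⟨⟨g, hg⟩, ?_⟩
      apply hinj _ (hN.conj_mem _ hn _) _ hm
      change (g * (n : G) * g⁻¹) • x = (m : G) • x
      have hg' : g⁻¹ • x = x := by
        rw [inv_smul_eq_iff, hgx]
      rw [mul_smul, mul_smul, hg', hgn]
    -- so `N` is a group of prime power order
    haveI hNnt : Nontrivial N := ⟨⟨⟨n₀, hn₀⟩, 1, fun h => hn₀1 (congrArg Subtype.val h)⟩⟩
    obtain ⟨p, hp, hpd⟩ := Nat.exists_prime_and_dvd (Finite.one_lt_card (α := N)).ne'
    haveI : Fact p.Prime := ⟨hp⟩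
    obtain ⟨z, hz⟩ := exists_prime_orderOf_dvd_card' p hpd
    have hz1 : z ≠ 1 := by
      intro h
      rw [h, orderOf_one] at hz
      exact hp.one_lt.ne hz
    have hzpow : ((z : S)) ^ p = 1 := by
      have : z ^ p = 1 := hz ▸ pow_orderOf_eq_one z
      simpa using congrArg Subtype.val this
    have hpg : IsPGroup p N := by
      intro n
      by_cases hn1 : n = 1
      · exact ⟨0, by simp [hn1]⟩
      · obtain ⟨g, hg⟩ := hconj z z.2 n n.2
          (fun h => hz1 (Subtype.ext h)) (fun h => hn1 (Subtype.ext h))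
        refine ⟨1, ?_⟩
        apply Subtype.ext
        rw [pow_one]
        change (n : S) ^ p = 1
        rw [← hg, conj_pow, hzpow, mul_one, mul_inv_cancel]
    obtain ⟨k, hk⟩ := IsPGroup.iff_card.mp hpg
    -- `N` has the size of `Ω`
    have hNΩ : Nat.card N = Set.ncard Ω := by
      let f : N → Ω := fun n => ⟨((n : S) : G) • x, hinv _ (n : S).2 x hx⟩
      have hf : Function.Bijective f := by
        constructor
        · intro n m h
          have h1 : ((n : S) : G) • x = ((m : S) : G) • x := congrArg Subtype.val h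
          exact Subtype.ext (hinj n n.2 m m.2 h1)
        · rintro ⟨d, hd⟩
          obtain ⟨n, hn, hnd⟩ := hNtr x hx d hd
          exact ⟨⟨n, hn⟩, Subtype.ext hnd⟩
      rw [Nat.card_congr (Equiv.ofBijective f hf), Nat.card_coe_set_eq]
    apply hcard
    rw [← hNΩ, hk]
    have hk0 : k ≠ 0 := by
      rintro rfl
      have := Finite.one_lt_card (α := N)
      rw [hk] at this
      simp at this
    exact (hp.isPrimePow).pow hk0
  · -- `N` contains the stabilizer
    rw [eq_top_iff]
    intro g _
    obtain ⟨n, hn, hnx⟩ := hNtr x hx _ (hinv _ g.2 x hx)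
    have hstab : ((n⁻¹ * g : S) : G) • x = x := by
      change ((n : G)⁻¹ * (g : G)) • x = x
      rw [mul_smul, ← hnx, inv_smul_smul]
    have hmem : (⟨((n⁻¹ * g : S) : G), ⟨(n⁻¹ * g).2, hstab⟩⟩ : ↥(S ⊓ stabilizer G x)) ∈ K := by
      rw [hK]; trivial
    rw [Subgroup.mem_subgroupOf, Subgroup.mem_map] at hmem
    obtain ⟨m, hm, hmeq⟩ := hmem
    have h1 : m = n⁻¹ * g := Subtype.ext hmeq
    have : g = n * m := by rw [h1]; group
    rw [this]
    exact N.mul_mem hn hm

end TwoTrans

end Cfsg.Agent.Lib.Mathieu.Simple
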